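import Mathlib

set_option autoImplicit false

/-!
# Central quotients of normal subgroups

If `N` is a normal subgroup of `O` such that `N ⧸ Z(N)` and `[O, O] ⧸ Z([O, O])` are simple, the
first of them not abelian, then the two quotients are isomorphic.
-/

namespace Cfsg.Agent.Fischer919.CentralQuot

open scoped commutatorElement

/-- A subgroup covering the quotient by the centre has the same central quotient. -/
theorem equiv_of_sup_center {H : Type*} [Group H] (A : Subgroup H)
    (h : A ⊔ Subgroup.center H = ⊤) :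
    Nonempty ((↥A ⧸ Subgroup.center ↥A) ≃* (H ⧸ Subgroup.center H)) := by
  let ψ : ↥A →* H ⧸ Subgroup.center H := (QuotientGroup.mk' (Subgroup.center H)).comp A.subtype
  have hs : Function.Surjective ψ := by
    intro q
    obtain ⟨x, rfl⟩ := QuotientGroup.mk'_surjective (Subgroup.center H) q
    have hx : x ∈ A ⊔ Subgroup.center H := by rw [h]; trivial
    rw [Subgroup.mem_sup_of_normal_right] at hx
    obtain ⟨a, ha, z, hz, rfl⟩ := hx
    refine ⟨⟨a, ha⟩, ?_⟩
    show QuotientGroup.mk' (Subgroup.center H) a = QuotientGroup.mk' (Subgroup.center H) (a * z)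
    rw [map_mul]
    have : QuotientGroup.mk' (Subgroup.center H) z = 1 := by
      rw [QuotientGroup.mk'_apply, QuotientGroup.eq_one_iff]
      exact hz
    rw [this, mul_one]
  have hk : ψ.ker = Subgroup.center ↥A := by
    ext a
    rw [MonoidHom.mem_ker]
    show QuotientGroup.mk' (Subgroup.center H) (a : H) = 1 ↔ _
    rw [QuotientGroup.mk'_apply, QuotientGroup.eq_one_iff, Subgroup.mem_center_iff,
      Subgroup.mem_center_iff]
    constructor
    · intro h1 g
      apply Subtype.ext
      exact h1 g
    · intro h1 g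
      have hg : g ∈ A ⊔ Subgroup.center H := by rw [h]; trivial
      rw [Subgroup.mem_sup_of_normal_right] at hg
      obtain ⟨b, hb, z, hz, rfl⟩ := hg
      have h2 : b * (a : H) = (a : H) * b := congrArg Subtype.val (h1 ⟨b, hb⟩)
      rw [Subgroup.mem_center_iff] at hz
      calc b * z * (a : H) = b * (z * (a : H)) := mul_assoc _ _ _
        _ = b * ((a : H) * z) := by rw [hz]
        _ = (a : H) * (b * z) := by rw [← mul_assoc, h2, mul_assoc]
  exact ⟨(QuotientGroup.quotientMulEquivOfEq hk.symm).trans
    (QuotientGroup.quotientKerEquivOfSurjective ψ hs)⟩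

/-- Isomorphic groups have isomorphic central quotients. -/
theorem equiv_quotient_center {G H : Type*} [Group G] [Group H] (e : G ≃* H) :
    Nonempty ((G ⧸ Subgroup.center G) ≃* (H ⧸ Subgroup.center H)) := by
  let ψ : G →* H ⧸ Subgroup.center H :=
    (QuotientGroup.mk' (Subgroup.center H)).comp (e : G →* H)
  have hs : Function.Surjective ψ :=
    (QuotientGroup.mk'_surjective _).comp e.surjective
  have hk : ψ.ker = Subgroup.center G := by
    ext a
    rw [MonoidHom.mem_ker]
    show QuotientGroup.mk' (Subgroup.center H) (e a) = 1 ↔ _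
    rw [QuotientGroup.mk'_apply, QuotientGroup.eq_one_iff, Subgroup.mem_center_iff,
      Subgroup.mem_center_iff]
    constructor
    · intro h1 g
      apply e.injective
      rw [map_mul, map_mul]
      exact h1 _
    · intro h1 g
      obtain ⟨g, rfl⟩ := e.surjective g
      rw [← map_mul, ← map_mul, h1]
  exact ⟨(QuotientGroup.quotientMulEquivOfEq hk.symm).trans
    (QuotientGroup.quotientKerEquivOfSurjective ψ hs)⟩

/-- If `H ⧸ Z(H)` is simple and not abelian then `H = [H, H] Z(H)`. -/
theorem commutator_sup_center {H : Type*} [Group H] (hs : IsSimpleGroup (H ⧸ Subgroup.center H))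
    (hna : ∃ x y : H ⧸ Subgroup.center H, x * y ≠ y * x) :
    commutator H ⊔ Subgroup.center H = ⊤ := by
  have h1 : (commutator H).map (QuotientGroup.mk' (Subgroup.center H)) = ⊤ := by
    have h2 := hs.eq_bot_or_eq_top_of_normal
      ((commutator H).map (QuotientGroup.mk' (Subgroup.center H)))
      (Subgroup.Normal.map inferInstance _ (QuotientGroup.mk'_surjective _))
    rcases h2 with h2 | h2
    · exfalso
      obtain ⟨x, y, hxy⟩ := hna
      obtain ⟨x, rfl⟩ := QuotientGroup.mk'_surjective (Subgroup.center H) x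
      obtain ⟨y, rfl⟩ := QuotientGroup.mk'_surjective (Subgroup.center H) y
      apply hxy
      have h3 : QuotientGroup.mk' (Subgroup.center H) ⁅x, y⁆ ∈
          (commutator H).map (QuotientGroup.mk' (Subgroup.center H)) :=
        Subgroup.mem_map_of_mem _ (Subgroup.commutator_mem_commutator (Subgroup.mem_top _)
          (Subgroup.mem_top _))
      rw [h2, Subgroup.mem_bot, map_commutatorElement, commutatorElement_eq_one_iff_mul_comm] at h3
      exact h3
    · exact h2
  rw [eq_top_iff]
  intro x _
  have h3 : QuotientGroup.mk' (Subgroup.center H) x ∈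
      (commutator H).map (QuotientGroup.mk' (Subgroup.center H)) := by rw [h1]; trivial
  obtain ⟨y, hy, hyx⟩ := h3
  have h4 : y⁻¹ * x ∈ Subgroup.center H := by
    rw [← QuotientGroup.eq]
    exact hyx
  have h5 : x = y * (y⁻¹ * x) := by group
  rw [h5]
  exact Subgroup.mul_mem_sup hy h4

/-- If `H ⧸ Z(H)` is simple and `A` is a non abelian normal subgroup then `H = A Z(H)`. -/
theorem sup_center_of_normal {H : Type*} [Group H] (hs : IsSimpleGroup (H ⧸ Subgroup.center H))
    (A : Subgroup H) (hA : A.Normal) (hna : ∃ x ∈ A, ∃ y ∈ A, x * y ≠ y * x) :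
    A ⊔ Subgroup.center H = ⊤ := by
  have h2 := hs.eq_bot_or_eq_top_of_normal (A.map (QuotientGroup.mk' (Subgroup.center H)))
      (Subgroup.Normal.map hA _ (QuotientGroup.mk'_surjective _))
  rcases h2 with h2 | h2
  · exfalso
    obtain ⟨x, hx, y, hy, hxy⟩ := hna
    apply hxy
    have h3 : QuotientGroup.mk' (Subgroup.center H) x = 1 := by
      have : QuotientGroup.mk' (Subgroup.center H) x ∈
        (A.map (QuotientGroup.mk' (Subgroup.center H))) := Subgroup.mem_map_of_mem _ hx
      rwa [h2, Subgroup.mem_bot] at this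
    rw [QuotientGroup.mk'_apply, QuotientGroup.eq_one_iff, Subgroup.mem_center_iff] at h3
    exact (h3 y).symm
  · rw [eq_top_iff]
    intro x _
    have h3 : QuotientGroup.mk' (Subgroup.center H) x ∈
        A.map (QuotientGroup.mk' (Subgroup.center H)) := by rw [h2]; trivial
    obtain ⟨y, hy, hyx⟩ := h3
    have h4 : y⁻¹ * x ∈ Subgroup.center H := by
      rw [← QuotientGroup.eq]
      exact hyx
    have h5 : x = y * (y⁻¹ * x) := by group
    rw [h5]
    exact Subgroup.mul_mem_sup hy h4

/-- The main statement of the file. -/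
theorem equiv_commutator {O : Type*} [Group O] (N : Subgroup O) (hN : N.Normal)
    (hs : IsSimpleGroup (↥N ⧸ Subgroup.center ↥N))
    (hna : ∃ x y : ↥N ⧸ Subgroup.center ↥N, x * y ≠ y * x)
    (hO : IsSimpleGroup (↥(commutator O) ⧸ Subgroup.center ↥(commutator O))) :
    Nonempty ((↥N ⧸ Subgroup.center ↥N) ≃*
      (↥(commutator O) ⧸ Subgroup.center ↥(commutator O))) := by
  -- the commutator subgroup of `N`
  have h1 : commutator ↥N ⊔ Subgroup.center ↥N = ⊤ := commutator_sup_center hs hna
  obtain ⟨e1⟩ := equiv_of_sup_center (commutator ↥N) h1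
  -- as a subgroup of `O`
  have hP : (commutator ↥N).map N.subtype = ⁅N, N⁆ := by
    rw [_root_.commutator_def, Subgroup.map_commutator]
    congr 1 <;>
    · rw [← MonoidHom.range_eq_map, Subgroup.range_subtype]
  have hle : ⁅N, N⁆ ≤ commutator O := by
    rw [_root_.commutator_def]
    exact Subgroup.commutator_mono le_top le_top
  have hPn : (⁅N, N⁆ : Subgroup O).Normal := Subgroup.commutator_normal N N
  let e2 : ↥(commutator ↥N) ≃* ↥(⁅N, N⁆ : Subgroup O) :=
    ((commutator ↥N).equivMapOfInjective N.subtype N.subtype_injective).trans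
      (MulEquiv.subgroupCongr hP)
  let e3 : ↥((⁅N, N⁆ : Subgroup O).subgroupOf (commutator O)) ≃* ↥(⁅N, N⁆ : Subgroup O) :=
    Subgroup.subgroupOfEquivOfLe hle
  obtain ⟨e4⟩ := equiv_quotient_center (e2.trans e3.symm)
  -- it covers the central quotient of `[O, O]`
  have h2 : (⁅N, N⁆ : Subgroup O).subgroupOf (commutator O) ⊔
      Subgroup.center ↥(commutator O) = ⊤ := by
    apply sup_center_of_normal hO
    · exact Subgroup.Normal.subgroupOf hPn _
    · by_contra hcon
      push Not at hcon
      obtain ⟨x, y, hxy⟩ := hna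
      obtain ⟨x, rfl⟩ := e1.surjective x
      obtain ⟨y, rfl⟩ := e1.surjective y
      obtain ⟨x, rfl⟩ := QuotientGroup.mk'_surjective _ x
      obtain ⟨y, rfl⟩ := QuotientGroup.mk'_surjective _ y
      apply hxy
      rw [← map_mul, ← map_mul, ← map_mul, ← map_mul]
      congr 2
      apply (e2.trans e3.symm).injective
      rw [map_mul, map_mul]
      apply Subtype.ext
      exact hcon _ ((e2.trans e3.symm) x).2 _ ((e2.trans e3.symm) y).2
  obtain ⟨e5⟩ := equiv_of_sup_center _ h2
  exact ⟨e1.symm.trans (e4.trans e5)⟩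

end Cfsg.Agent.Fischer919.CentralQuot
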