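import Mathlib
import Cfsg.Agent.LieClassical.OrthCount
import Cfsg.Agent.LieClassical.OmegaReindex
import Cfsg.Agent.ClassicalGeometry.DiagNormal
import Cfsg.Agent.ClassicalGeometry.OddInvolutions

set_option autoImplicit false

/-!
# `PΩ(Q)` of a nondegenerate quadratic form in odd dimension over a finite field of odd order
-/

namespace Cfsg.Agent.Fischer919.OmegaIdent

open Cfsg Matrix
open Cfsg.Agent.ClassicalGeometry.OddInvolutions
open Cfsg.Agent.LieClassical.OmegaReindex

/-- The isometry group of a non zero multiple of a form. -/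
theorem isometryGroup_smul {ι : Type} [Fintype ι] [DecidableEq ι] {F : Type*} [Field F]
    (Q : (ι → F) → F) {c : F} (hc : c ≠ 0) :
    isometryGroup F (fun v => c * Q v) = isometryGroup F Q := by
  ext g
  rw [Cfsg.Agent.LieClassical.OmegaReindex.mem_isometryGroup,
    Cfsg.Agent.LieClassical.OmegaReindex.mem_isometryGroup]
  constructor
  · intro h x
    exact mul_left_cancel₀ hc (h x)
  · intro h x
    rw [h x]

/-- All nondegenerate forms in dimension `2 m + 1` have isomorphic `PΩ`. -/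
theorem exists_equiv_quadFormOdd {F : Type*} [Field F] [Finite F] (h2 : (2 : F) ≠ 0) {m : ℕ}
    (Q : QuadraticForm F (Fin (2 * m + 1) → F)) (hQ : (QuadraticMap.polarBilin Q).Nondegenerate) :
    Nonempty (POmega F (⇑Q) ≃* POmega F (quadFormOdd m F)) := by
  have hcard : Fintype.card (Unit ⊕ (Fin m ⊕ Fin m)) = 2 * m + 1 := by
    rw [Fintype.card_sum, Fintype.card_sum, Fintype.card_fin, Fintype.card_unit]
    ring
  let e : Unit ⊕ (Fin m ⊕ Fin m) ≃ Fin (2 * m + 1) := Fintype.equivFinOfCardEq hcard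
  let Q₁ : QuadraticForm F (Fin (2 * m + 1) → F) := reindexForm e (quadOdd m F)
  have hQ₁ : (QuadraticMap.polarBilin Q₁).Nondegenerate :=
    reindexForm_nondegenerate e _ (quadOdd_nondegenerate h2)
  obtain ⟨g, c, hc, hg⟩ := Cfsg.Agent.ClassicalGeometry.DiagNormal.exists_similar h2
    (n := 2 * m + 1) ⟨m, rfl⟩ Q₁ Q hQ₁ hQ
  let P : Matrix.GeneralLinearGroup (Fin (2 * m + 1)) F :=
    (Cfsg.Agent.LieClassical.OrthCount.glEquiv (Fin (2 * m + 1)) F).symm g
  have hP : ∀ v, (P : Matrix (Fin (2 * m + 1)) (Fin (2 * m + 1)) F) *ᵥ v = g v := by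
    intro v
    rw [← Cfsg.Agent.LieClassical.OrthCount.glEquiv_apply]
    show (Cfsg.Agent.LieClassical.OrthCount.glEquiv (Fin (2 * m + 1)) F)
      ((Cfsg.Agent.LieClassical.OrthCount.glEquiv (Fin (2 * m + 1)) F).symm g) v = g v
    rw [MulEquiv.apply_symm_apply]
  obtain ⟨e1⟩ := pomega_congr (⇑Q) P
  have hfun : (fun v => Q ((P : Matrix (Fin (2 * m + 1)) (Fin (2 * m + 1)) F) *ᵥ v)) =
      fun v => c * Q₁ v := by
    funext v
    rw [hP, hg]
  rw [hfun] at e1
  obtain ⟨e2⟩ := commutator_quot_center_congr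
    (MulEquiv.subgroupCongr (isometryGroup_smul (⇑Q₁) hc))
  obtain ⟨e3⟩ := commutator_quot_center_congr
    (isometryGroupReindex e (⇑(quadOdd m F)) (⇑Q₁) (fun v => rfl))
  rw [← coe_quadOdd]
  exact ⟨e1.symm.trans (e2.trans e3.symm)⟩

end Cfsg.Agent.Fischer919.OmegaIdent
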