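import Mathlib
import Cfsg.Agent.Fischer3.Orth3Basic

set_option autoImplicit false

/-!
# Lines of the space of norm one vectors over `ZMod 3`

`exists_sep`: in dimension at least `6`, a vector outside the span of two non orthogonal norm one
vectors `u, v` is not orthogonal to some norm one vector orthogonal to `u` and `v`.
-/

namespace Cfsg.Agent.Fischer919.NormOne

open Cfsg.Agent.Fischer3.Orth3Basic
open LinearMap (BilinForm)

variable {V : Type*} [AddCommGroup V] [Module (ZMod 3) V] {B : BilinForm (ZMod 3) V}

/-- the negative of a form -/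
theorem neg_form (F : Form B) : Form (-B) where
  symm v w := by
    show -(B v w) = -(B w v)
    rw [F.symm]
  nondeg v h := by
    apply F.nondeg
    intro w
    have h1 : -(B v w) = 0 := h w
    rwa [neg_eq_zero] at h1

/-- norm `-1` vectors orthogonal to a family -/
theorem exists_norm_neg_one (F : Form B) [Module.Finite (ZMod 3) V] {k : ℕ} (u : Fin k → V)
    (U : Submodule (ZMod 3) V)
    (hU : ∀ t ∈ Submodule.span (ZMod 3) (Set.range u), (∀ i, B (u i) t = 0) → t ∈ U)
    (h : k + 1 + Module.finrank (ZMod 3) U < Module.finrank (ZMod 3) V) :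
    ∃ t, (∀ i, B (u i) t = 0) ∧ B t t = -1 := by
  obtain ⟨t, ht, ht1⟩ := (neg_form F).exists_norm_one u U (by
    intro t ht h1
    apply hU t ht
    intro i
    have h2 : -(B (u i) t) = 0 := h1 i
    rwa [neg_eq_zero] at h2) h
  refine ⟨t, fun i => ?_, ?_⟩
  · have h2 : -(B (u i) t) = 0 := ht i
    rwa [neg_eq_zero] at h2
  · have h2 : -(B t t) = 1 := ht1
    rw [← h2, neg_neg]

theorem mem_span_pair' {u v w : V} :
    w ∈ Submodule.span (ZMod 3) ({u, v} : Set V) ↔ ∃ a b : ZMod 3, a • u + b • v = w :=
  Submodule.mem_span_pair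

/-- A vector outside the span of two non orthogonal norm one vectors. -/
theorem exists_sep (F : Form B) [Module.Finite (ZMod 3) V] (hn : 6 ≤ Module.finrank (ZMod 3) V)
    {u v w : V} (hu : B u u = 1) (hv : B v v = 1) (huv : B u v ≠ 0)
    (hw : w ∉ Submodule.span (ZMod 3) ({u, v} : Set V)) :
    ∃ s, B s s = 1 ∧ B s u = 0 ∧ B s v = 0 ∧ B s w ≠ 0 := by
  -- the radical vector
  set r : V := u - B u v • v with hr
  have e2 := mul_self_of_ne huv
  have hru : B r u = 0 := by
    rw [hr, map_sub, map_smul, LinearMap.sub_apply, LinearMap.smul_apply, hu, F.symm v u,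
      smul_eq_mul, e2, sub_self]
  have hrv : B r v = 0 := by
    rw [hr, map_sub, map_smul, LinearMap.sub_apply, LinearMap.smul_apply, hv,
      smul_eq_mul, mul_one, sub_self]
  have hrr : B r r = 0 := by
    have h1 : B r (u - B u v • v) = 0 := by
      rw [map_sub, map_smul, hru, hrv, smul_zero, sub_zero]
    exact h1
  have hvr : v = B u v • u - B u v • r := by
    have : (B u v * B u v) • v = v := by rw [e2, one_smul]
    rw [hr]
    linear_combination (norm := module) -this
  -- reduce to the case `w ⊥ u`
  have hw' : w - B u w • u ∉ Submodule.span (ZMod 3) ({u, v} : Set V) := by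
    intro h
    apply hw
    have h2 : w = (w - B u w • u) + B u w • u := by abel
    rw [h2]
    exact Submodule.add_mem _ h (Submodule.smul_mem _ _ (Submodule.subset_span (by simp)))
  have huw' : B u (w - B u w • u) = 0 := by
    rw [map_sub, map_smul, hu, smul_eq_mul, mul_one, sub_self]
  suffices key : ∀ w : V, w ∉ Submodule.span (ZMod 3) ({u, v} : Set V) → B u w = 0 →
      ∃ s, B s s = 1 ∧ B s u = 0 ∧ B s v = 0 ∧ B s w ≠ 0 by
    obtain ⟨s, hs, hsu, hsv, hsw⟩ := key _ hw' huw'
    refine ⟨s, hs, hsu, hsv, ?_⟩
    rw [map_sub, map_smul, hsu, smul_zero, sub_zero] at hsw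
    exact hsw
  clear hw huw' hw' w
  intro w hw huw
  have hwu : B w u = 0 := by rw [F.symm]; exact huw
  by_cases hτ : B w r = 0
  · -- `w` is orthogonal to `u` and `v`
    have hwv : B w v = 0 := by
      rw [hvr, map_sub, map_smul, map_smul, hwu, hτ, smul_zero, sub_zero]
    have hvw : B v w = 0 := by rw [F.symm]; exact hwv
    rcases cases3 (B w w) with h | h | h
    · obtain ⟨s, hs, hs', hws⟩ := F.exists_norm_one_of_isotropic ![u, v] h (by
        intro i
        fin_cases i
        · exact huw
        · exact hvw) (by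
        rw [Matrix.range_cons, Matrix.range_cons, Matrix.range_empty, Set.union_empty,
          Set.singleton_union]
        exact hw)
      refine ⟨s, hs, ?_, ?_, ?_⟩
      · rw [F.symm]; exact hs' 0
      · rw [F.symm]; exact hs' 1
      · rw [F.symm]; exact hws
    · exact ⟨w, h, hwu, hwv, by rw [h]; decide⟩
    · obtain ⟨t, ht, htt⟩ := exists_norm_neg_one F ![u, v, w] (Submodule.span (ZMod 3) {r}) (by
        intro t ht ht'
        rw [Submodule.mem_span_range_iff_exists_fun] at ht
        obtain ⟨c, rfl⟩ := ht
        rw [Fin.sum_univ_three] at ht' ⊢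
        have h1 : B u (c 0 • u + c 1 • v + c 2 • w) = 0 := ht' 0
        have h3 : B w (c 0 • u + c 1 • v + c 2 • w) = 0 := ht' 2
        rw [map_add, map_add, map_smul, map_smul, map_smul, hu, huw, smul_zero, add_zero,
          smul_eq_mul, smul_eq_mul, mul_one] at h1
        rw [map_add, map_add, map_smul, map_smul, map_smul, hwu, hwv, smul_zero, smul_zero,
          zero_add, zero_add, h, smul_eq_mul] at h3
        have h4 : c 2 = 0 := by
          have h5 : ∀ a : ZMod 3, a * -1 = 0 → a = 0 := by decide
          exact h5 _ h3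
        show c 0 • u + c 1 • v + c 2 • w ∈ _
        rw [Submodule.mem_span_singleton]
        refine ⟨c 0, ?_⟩
        have h5 : c 0 = - (c 1 * B u v) := by linear_combination h1
        have h6 : (c 1 * (B u v * B u v)) • v = c 1 • v := by rw [e2, mul_one]
        rw [hr, h4, h5]
        linear_combination (norm := module) h6) (by
        have h7 : Module.finrank (ZMod 3) (Submodule.span (ZMod 3) ({r} : Set V)) ≤ 1 :=
          (finrank_span_le_card ({r} : Set V)).trans (by simp)
        omega)
      have htu : B u t = 0 := ht 0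
      have htv : B v t = 0 := ht 1
      have htw : B w t = 0 := ht 2
      refine ⟨w + t, ?_, ?_, ?_, ?_⟩
      · rw [F.norm_add, h, htt, htw]; decide
      · rw [map_add, LinearMap.add_apply, hwu, F.symm t u, htu, add_zero]
      · rw [map_add, LinearMap.add_apply, hwv, F.symm t v, htv, add_zero]
      · rw [map_add, LinearMap.add_apply, h, F.symm t w, htw]; decide
  · -- `w` is not orthogonal to `r`
    have e3 := mul_self_of_ne hτ
    have hur : B u r = 0 := by rw [F.symm]; exact hru
    set w' : V := w + (B w w * B w r) • r with hw'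
    have hw'r : B w' r = B w r := by
      rw [hw', map_add, map_smul, LinearMap.add_apply, LinearMap.smul_apply, hrr, smul_zero,
        add_zero]
    have hrw' : B r w' = B w r := by rw [F.symm]; exact hw'r
    have huw' : B u w' = 0 := by
      rw [hw', map_add, map_smul, huw, hur, smul_zero, add_zero]
    have hw'w' : B w' w' = 0 := by
      rw [hw', F.norm_add, Form.norm_smul, hrr, map_smul, smul_eq_mul]
      linear_combination (2 * B w w) * e3 + (B w w) * three
    obtain ⟨y, hy, hyy⟩ := F.exists_norm_one ![u, r, w'] ⊥ (by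
      intro t ht ht'
      rw [Submodule.mem_span_range_iff_exists_fun] at ht
      obtain ⟨c, rfl⟩ := ht
      rw [Fin.sum_univ_three] at ht' ⊢
      have h1 : B u (c 0 • u + c 1 • r + c 2 • w') = 0 := ht' 0
      have h2 : B r (c 0 • u + c 1 • r + c 2 • w') = 0 := ht' 1
      have h3 : B w' (c 0 • u + c 1 • r + c 2 • w') = 0 := ht' 2
      have hw'u : B w' u = 0 := by rw [F.symm]; exact huw'
      rw [map_add, map_add, map_smul, map_smul, map_smul, hu, hur, huw', smul_zero, smul_zero,
        add_zero, add_zero, smul_eq_mul, mul_one] at h1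
      rw [map_add, map_add, map_smul, map_smul, map_smul, hru, hrr, hrw', smul_zero, smul_zero,
        zero_add, zero_add, smul_eq_mul] at h2
      rw [map_add, map_add, map_smul, map_smul, map_smul, hw'u, hw'r, hw'w', smul_zero, smul_zero,
        zero_add, add_zero, smul_eq_mul] at h3
      have h4 : c 2 = 0 := (mul_eq_zero.1 h2).resolve_right hτ
      have h5 : c 1 = 0 := (mul_eq_zero.1 h3).resolve_right hτ
      show c 0 • u + c 1 • r + c 2 • w' ∈ _
      rw [h1, h4, h5]
      simp) (by
      rw [finrank_bot]
      omega)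
    have hyu : B y u = 0 := by rw [F.symm]; exact hy 0
    have hyr : B y r = 0 := by rw [F.symm]; exact hy 1
    have hyw' : B y w' = 0 := by rw [F.symm]; exact hy 2
    have hsr : B (y + r) r = 0 := by
      rw [map_add, LinearMap.add_apply, hyr, hrr, add_zero]
    have hsu : B (y + r) u = 0 := by
      rw [map_add, LinearMap.add_apply, hyu, hru, add_zero]
    refine ⟨y + r, ?_, hsu, ?_, ?_⟩
    · rw [F.norm_add, hyy, hyr, hrr]; decide
    · rw [hvr, map_sub, map_smul, map_smul, hsu, hsr, smul_zero, sub_zero]
    · have h1 : B (y + r) w' = B w r := by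
        rw [map_add B y r, LinearMap.add_apply, hyw', hrw', zero_add]
      rw [hw', map_add, map_smul, hsr, smul_zero, add_zero] at h1
      rw [h1]
      exact hτ

/-- norm one vectors of the span of two non orthogonal ones -/
theorem norm_one_of_mem_span (F : Form B) {u v w : V} (hu : B u u = 1) (hv : B v v = 1)
    (huv : B u v ≠ 0) (hw : w ∈ Submodule.span (ZMod 3) ({u, v} : Set V)) (hww : B w w = 1) :
    (w = u ∨ w = -u) ∨ (w = v ∨ w = -v) ∨ (w = rfn B u v ∨ w = - rfn B u v) := by
  obtain ⟨a, b, rfl⟩ := Submodule.mem_span_pair.1 hw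
  rw [F.norm_add, Form.norm_smul, Form.norm_smul, hu, hv, map_smul, map_smul,
    LinearMap.smul_apply, smul_eq_mul, smul_eq_mul] at hww
  rw [Cfsg.Agent.Fischer3.Orth3Basic.refl_def]
  have key : ∀ a b e : ZMod 3, e ≠ 0 → a * a * 1 + 2 * (b * (a * e)) + b * b * 1 = 1 →
      ((b = 0 ∧ a = 1) ∨ (b = 0 ∧ a = -1)) ∨ ((a = 0 ∧ b = 1) ∨ (a = 0 ∧ b = -1)) ∨
      ((b = 1 ∧ a = e) ∨ (b = -1 ∧ a = -e)) := by decide
  rcases key a b _ huv hww with (⟨h1, h2⟩ | ⟨h1, h2⟩) | (⟨h1, h2⟩ | ⟨h1, h2⟩) | (⟨h1, h2⟩ | ⟨h1, h2⟩)
  · left; left; rw [h1, h2]; simp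
  · left; right; rw [h1, h2]; simp
  · right; left; left; rw [h1, h2]; simp
  · right; left; right; rw [h1, h2]; simp
  · right; right; left; rw [h1, h2]; module
  · right; right; right; rw [h1, h2]; module

/-- A vector orthogonal to all norm one vectors is zero. -/
theorem eq_zero_of_perp (F : Form B) [Module.Finite (ZMod 3) V]
    (hn : 6 ≤ Module.finrank (ZMod 3) V) {w : V} (hw : ∀ s, B s s = 1 → B s w = 0) : w = 0 := by
  by_contra hw0
  rcases cases3 (B w w) with h | h | h
  · obtain ⟨s, hs, -, hws⟩ := F.exists_norm_one_of_isotropic (fun i : Fin 0 => (i.elim0 : V)) h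
      (fun i => i.elim0) (by
        rw [Set.range_eq_empty, Submodule.span_empty, Submodule.mem_bot]
        exact hw0)
    rw [F.symm] at hws
    exact hws (hw s hs)
  · have := hw w h
    rw [h] at this
    exact absurd this (by decide)
  · obtain ⟨t, ht, htt⟩ := exists_norm_neg_one F ![w] ⊥ (by
      intro t ht ht'
      rw [Matrix.range_cons, Matrix.range_empty, Set.union_empty, Submodule.mem_span_singleton] at ht
      obtain ⟨a, rfl⟩ := ht
      have h1 : B w (a • w) = 0 := ht' 0
      rw [map_smul, h, smul_eq_mul] at h1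
      have h4 : a = 0 := by
        have h5 : ∀ a : ZMod 3, a * -1 = 0 → a = 0 := by decide
        exact h5 _ h1
      rw [h4, zero_smul]
      exact Submodule.zero_mem _) (by
      rw [finrank_bot]
      omega)
    have htw : B w t = 0 := ht 0
    have h1 : B (w + t) (w + t) = 1 := by
      rw [F.norm_add, h, htt, htw]; decide
    have h2 := hw _ h1
    rw [map_add, LinearMap.add_apply, h, F.symm t w, htw] at h2
    exact absurd h2 (by decide)

end Cfsg.Agent.Fischer919.NormOne
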