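import Mathlib
import Cfsg.Agent.Fischer919.OmegaR
import Cfsg.Agent.Fischer919.OmegaIdent
import Cfsg.Agent.LieClassical.OrthFinite

set_option autoImplicit false

/-!
# The simple groups of type `R n`

`G` simple and non abelian, generated by a class of 3-transpositions of type `R n`, `n ≥ 6`: then
`n = 2 m + 1` is odd and `G ≃* PΩ(2 m + 1, 3)`.
-/

namespace Cfsg.Agent.Fischer919.OmegaMain

open Cfsg Matrix
open Cfsg.Agent.ClassicalGeometry.Reflection
open Cfsg.Agent.Fischer3.Orth3Basic (Form cases3 mul_self_of_ne three)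
open Cfsg.Agent.Fischer919.NormOne
open Cfsg.Agent.Fischer919.CentralQuot
open Cfsg.Agent.Fischer919.OmegaR
open Cfsg.Agent.SporadicStructure.FischerSpace
open LinearMap (BilinForm)

variable {n : ℕ}

local notation "rfl3" => Cfsg.Agent.Fischer3.Orth3Basic.rfn

/-- the matrix of an isometry -/
abbrev mat {B : BilinForm (ZMod 3) (Fin n → ZMod 3)} (g : isometryGroup (ZMod 3) (⇑(QB B))) :
    Matrix (Fin n) (Fin n) (ZMod 3) :=
  ((g : Matrix.GeneralLinearGroup (Fin n) (ZMod 3)) : Matrix (Fin n) (Fin n) (ZMod 3))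

theorem apply_mat {B : BilinForm (ZMod 3) (Fin n → ZMod 3)} (F : Form B)
    (g : isometryGroup (ZMod 3) (⇑(QB B))) (x y : Fin n → ZMod 3) :
    B (mat g *ᵥ x) (mat g *ᵥ y) = B x y := by
  have hg := (mem_isometryGroup_iff _ _).1 g.2
  have h1 := polar_mulVec_of_isometry (QB B) _ hg x y
  rw [polar_QB F, polar_QB F] at h1
  have h2 : ∀ a b : ZMod 3, 2 * a = 2 * b → a = b := by decide
  exact h2 _ _ h1

/-- a central element of `Gam B` maps every norm one vector to `±` itself -/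
theorem center_apply {B : BilinForm (ZMod 3) (Fin n → ZMod 3)} (F : Form B) {z : ↥(Gam B)}
    (hz : z ∈ Subgroup.center ↥(Gam B)) {v : Fin n → ZMod 3} (hv : B v v = 1) :
    mat (z : isometryGroup (ZMod 3) (⇑(QB B))) *ᵥ v = v ∨
      mat (z : isometryGroup (ZMod 3) (⇑(QB B))) *ᵥ v = -v := by
  have h1 : B (mat (z : isometryGroup (ZMod 3) (⇑(QB B))) *ᵥ v)
      (mat (z : isometryGroup (ZMod 3) (⇑(QB B))) *ᵥ v) = 1 := by
    rw [apply_mat F]
    exact hv
  have h2 : (z : isometryGroup (ZMod 3) (⇑(QB B))) * rr B hv *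
      (z : isometryGroup (ZMod 3) (⇑(QB B)))⁻¹ = rr B h1 :=
    conj_reflIso (QB B) v (QB_ne hv) (z : isometryGroup (ZMod 3) (⇑(QB B))) (QB_ne h1)
  rw [Subgroup.mem_center_iff] at hz
  have h3 : rr B hv * (z : isometryGroup (ZMod 3) (⇑(QB B))) =
      (z : isometryGroup (ZMod 3) (⇑(QB B))) * rr B hv :=
    congrArg Subtype.val (hz ⟨rr B hv, Subgroup.subset_closure ⟨_, hv, rfl⟩⟩)
  rw [← h3, mul_inv_cancel_right] at h2
  exact rr_injective F h1 hv h2.symm

variable {G : Type*} [Group G] {D : Set G}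

/-- **central elements are scalars** -/
theorem center_scalar {B : BilinForm (ZMod 3) (Fin n → ZMod 3)} (F : Form B) (h : FData D)
    (hn : 6 ≤ n) {f : G → Fin n → ZMod 3} (h1 : ∀ x ∈ D, B (f x) (f x) = 1)
    (h2 : ∀ x ∈ D, ∀ y ∈ D, (Commute x y ↔ x = y ∨ B (f x) (f y) = 0))
    (h4 : ∀ v, B v v = 1 → ∃ x ∈ D, v = f x ∨ v = - f x) {z : ↥(Gam B)}
    (hz : z ∈ Subgroup.center ↥(Gam B)) :
    ∃ ε : ZMod 3, (ε = 1 ∨ ε = -1) ∧
      mat (z : isometryGroup (ZMod 3) (⇑(QB B))) = ε • (1 : Matrix (Fin n) (Fin n) (ZMod 3)) := by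
  set M := mat (z : isometryGroup (ZMod 3) (⇑(QB B))) with hM
  have hB : ∀ x y, B (M *ᵥ x) (M *ᵥ y) = B x y := apply_mat F _
  have hpm : ∀ x ∈ D, ∃ δ : ZMod 3, (δ = 1 ∨ δ = -1) ∧ M *ᵥ (f x) = δ • f x := by
    intro x hx
    rcases center_apply F hz (h1 x hx) with h5 | h5
    · exact ⟨1, Or.inl rfl, by rw [one_smul]; exact h5⟩
    · exact ⟨-1, Or.inr rfl, by rw [neg_smul, one_smul]; exact h5⟩
  -- the sign is constant along non orthogonal pairs
  have step : ∀ x ∈ D, ∀ y ∈ D, B (f x) (f y) ≠ 0 → ∀ ε : ZMod 3, (ε = 1 ∨ ε = -1) →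
      M *ᵥ (f x) = ε • f x → M *ᵥ (f y) = ε • f y := by
    intro x hx y hy hxy ε hε hx1
    obtain ⟨δ, hδ, hy1⟩ := hpm y hy
    have h5 := hB (f x) (f y)
    rw [hx1, hy1, map_smul, map_smul, LinearMap.smul_apply, smul_eq_mul, smul_eq_mul] at h5
    have h6 : ∀ a e d : ZMod 3, a ≠ 0 → (e = 1 ∨ e = -1) → (d = 1 ∨ d = -1) → d * (e * a) = a →
        d = e := by decide
    rw [hy1, h6 _ _ _ hxy hε hδ h5]
  have step2 : ∀ ε : ZMod 3, (ε = 1 ∨ ε = -1) → ∀ g : G, ∀ x ∈ D,
      (M *ᵥ (f x) = ε • f x ↔ M *ᵥ (f (g * x * g⁻¹)) = ε • f (g * x * g⁻¹)) := by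
    intro ε hε g
    have hg : g ∈ Subgroup.closure D := by rw [h.gen]; trivial
    induction hg using Subgroup.closure_induction with
    | mem d hd =>
      intro x hx
      by_cases hdx : Commute d x
      · rw [hdx.eq, mul_inv_cancel_right]
      · have hcD : d * x * d⁻¹ ∈ D := h.conj d x hx
        have hne : B (f x) (f (d * x * d⁻¹)) ≠ 0 := by
          intro h0
          have h5 : Commute x (d * x * d⁻¹) := (h2 x hx _ hcD).2 (Or.inr h0)
          have hcD' : d * x * d ∈ D := h.conj' hd hx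
          rw [h.inv_eq hd] at h5
          have h6 : (d * x * d) * x * (d * x * d) = x := (h.commute_iff hcD' x).1 h5.symm
          have h7 : (d * x * d) * d * (d * x * d) = x := h.third_conj hd hx hdx
          have h8 : x = d := mul_left_cancel (mul_right_cancel (h6.trans h7.symm))
          exact hdx (by rw [h8])
        have hne' : B (f (d * x * d⁻¹)) (f x) ≠ 0 := by rw [F.symm]; exact hne
        exact ⟨step x hx _ hcD hne ε hε, step _ hcD x hx hne' ε hε⟩
    | one => intro x hx; rw [one_mul, inv_one, mul_one]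
    | mul a b _ _ ha hb =>
      intro x hx
      rw [hb x hx, ha _ (h.conj b x hx)]
      have : a * (b * x * b⁻¹) * a⁻¹ = a * b * x * (a * b)⁻¹ := by group
      rw [this]
    | inv a _ ha =>
      intro x hx
      have h5 := ha _ (h.conj a⁻¹ x hx)
      have : a * (a⁻¹ * x * a⁻¹⁻¹) * a⁻¹ = x := by group
      rw [this] at h5
      exact h5.symm
  obtain ⟨a₀, ha₀⟩ := h.nonempty
  obtain ⟨ε, hε, hε1⟩ := hpm a₀ ha₀
  have hall : ∀ x ∈ D, M *ᵥ (f x) = ε • f x := by
    intro x hx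
    obtain ⟨g, rfl⟩ := h.single a₀ ha₀ x hx
    exact (step2 ε hε g a₀ ha₀).1 hε1
  refine ⟨ε, hε, ?_⟩
  apply Matrix.mulVec_injective
  funext x
  rw [Matrix.smul_mulVec, Matrix.one_mulVec]
  have hee : ε * ε = 1 := by rcases hε with h5 | h5 <;> rw [h5] <;> decide
  rw [← sub_eq_zero]
  apply eq_zero_of_perp F (by simpa using hn)
  intro s hs
  have hs1 : M *ᵥ s = ε • s := by
    obtain ⟨a, ha, has | has⟩ := h4 s hs
    · rw [has]; exact hall a ha
    · rw [has, Matrix.mulVec_neg, hall a ha, smul_neg]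
  have h5 := hB s x
  rw [hs1, map_smul, LinearMap.smul_apply, smul_eq_mul] at h5
  rw [map_sub, map_smul, smul_eq_mul]
  linear_combination ε * h5 - (B s (M *ᵥ x)) * hee

/-- homomorphisms of non abelian simple groups to commutative groups are trivial -/
theorem hom_trivial {A : Type*} [CommGroup A] [IsSimpleGroup G] (hna : ∃ x y : G, x * y ≠ y * x)
    (ψ : G →* A) (g : G) : ψ g = 1 := by
  rcases IsSimpleGroup.eq_bot_or_eq_top_of_normal ψ.ker inferInstance with h | h
  · exfalso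
    obtain ⟨x, y, hxy⟩ := hna
    apply hxy
    apply (MonoidHom.ker_eq_bot_iff ψ).1 h
    rw [map_mul, map_mul, mul_comm]
  · have : g ∈ ψ.ker := by rw [h]; trivial
    exact this

/-- a non abelian simple group has trivial centre -/
theorem center_eq_bot [IsSimpleGroup G] (hna : ∃ x y : G, x * y ≠ y * x) :
    Subgroup.center G = ⊥ := by
  rcases IsSimpleGroup.eq_bot_or_eq_top_of_normal (Subgroup.center G) inferInstance with h | h
  · exact h
  · exfalso
    obtain ⟨x, y, hxy⟩ := hna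
    apply hxy
    have : y ∈ Subgroup.center G := by rw [h]; trivial
    exact (Subgroup.mem_center_iff.1 this) x

theorem nonabelian_of_equiv {H K : Type*} [Group H] [Group K] (e : H ≃* K)
    (h : ∃ x y : H, x * y ≠ y * x) : ∃ x y : K, x * y ≠ y * x := by
  obtain ⟨x, y, hxy⟩ := h
  refine ⟨e x, e y, fun h5 => hxy ?_⟩
  apply e.injective
  rw [map_mul, map_mul]
  exact h5

/-- **(4) the simple groups of type `R n`** -/
theorem exists_equiv_pomega [Finite G] [IsSimpleGroup G] (hna : ∃ x y : G, x * y ≠ y * x)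
    (h : FData D) (hn : 6 ≤ n) (hR : Cfsg.Agent.Fischer480.Defs.IsR n D) :
    ∃ m, n = 2 * m + 1 ∧ Nonempty (G ≃* POmega (ZMod 3) (quadFormOdd m (ZMod 3))) := by
  obtain ⟨B, f, hsymm, hnd, h1, h2, h3, h4⟩ := hR
  have F : Form B := ⟨fun v w => hsymm.eq v w, fun v hv => hnd.1 v hv⟩
  obtain ⟨e, he⟩ := exists_equiv_Gam F h hn h1 h2 h3 h4
  -- `n` is odd
  have hodd : Odd n := by
    rw [← Nat.not_even_iff_odd]
    intro heven
    let δ : ↥(Gam B) →* (ZMod 3)ˣ := (Matrix.GeneralLinearGroup.det).comp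
      ((isometryGroup (ZMod 3) (⇑(QB B))).subtype.comp (Gam B).subtype)
    have hδ : ∀ z ∈ Subgroup.center ↥(Gam B), δ z = 1 := by
      intro z hz
      obtain ⟨ε, hε, hz1⟩ := center_scalar F h hn h1 h2 h4 hz
      apply Units.ext
      show (mat (z : isometryGroup (ZMod 3) (⇑(QB B)))).det = 1
      rw [hz1, Matrix.det_smul, Matrix.det_one, mul_one, Fintype.card_fin]
      rcases hε with h5 | h5
      · rw [h5, one_pow]
      · rw [h5, heven.neg_one_pow]
    let ψ : G →* (ZMod 3)ˣ := (QuotientGroup.lift (Subgroup.center ↥(Gam B)) δ hδ).comp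
      ((e : (G ⧸ Subgroup.center G) →* (↥(Gam B) ⧸ Subgroup.center ↥(Gam B))).comp
        (QuotientGroup.mk' (Subgroup.center G)))
    obtain ⟨a, ha⟩ := h.nonempty
    have h5 := hom_trivial hna ψ a
    have h6 : ψ a = δ ⟨rr B (h1 a ha), Subgroup.subset_closure ⟨_, h1 a ha, rfl⟩⟩ := by
      show QuotientGroup.lift (Subgroup.center ↥(Gam B)) δ hδ (e (QuotientGroup.mk a)) = _
      rw [he a ha]
      rfl
    rw [h6] at h5
    have h7 : (((rr B (h1 a ha) : isometryGroup (ZMod 3) (⇑(QB B))) :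
      Matrix.GeneralLinearGroup (Fin n) (ZMod 3)) : Matrix (Fin n) (Fin n) (ZMod 3)).det = 1 :=
      congrArg Units.val h5
    have h8 : (((rr B (h1 a ha) : isometryGroup (ZMod 3) (⇑(QB B))) :
      Matrix.GeneralLinearGroup (Fin n) (ZMod 3)) : Matrix (Fin n) (Fin n) (ZMod 3)).det = -1 :=
      det_reflIso (QB B) (f a) (QB_ne (h1 a ha))
    rw [h8] at h7
    exact absurd h7 (by decide)
  obtain ⟨m, rfl⟩ := hodd
  refine ⟨m, rfl, ?_⟩
  -- nondegeneracy
  have hsep : ∀ x, (∀ y, QuadraticMap.polar (⇑(QB B)) x y = 0) → x = 0 := by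
    intro x hx
    apply F.nondeg
    intro y
    have h5 := hx y
    rw [polar_QB F] at h5
    have h6 : ∀ a : ZMod 3, 2 * a = 0 → a = 0 := by decide
    exact h6 _ h5
  have hQ : (QuadraticMap.polarBilin (QB B)).Nondegenerate := by
    constructor
    · intro x hx
      exact hsep x hx
    · intro x hx
      apply hsep x
      intro y
      rw [QuadraticMap.polar_comm]
      exact hx y
  -- simplicity
  have hG0 : G ≃* (↥(Gam B) ⧸ Subgroup.center ↥(Gam B)) :=
    ((QuotientGroup.quotientMulEquivOfEq (center_eq_bot hna)).trans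
      QuotientGroup.quotientBot).symm.trans e
  have hs1 : IsSimpleGroup (↥(Gam B) ⧸ Subgroup.center ↥(Gam B)) := hG0.symm.isSimpleGroup
  have hs2 : IsSimpleGroup (POmega (ZMod 3) (⇑(QB B))) := by
    apply Cfsg.Agent.LieClassical.OrthFinite.isSimpleGroup_POmega hsep
    rw [Fintype.card_fin]
    omega
  have hna' : ∃ x y : (↥(Gam B) ⧸ Subgroup.center ↥(Gam B)), x * y ≠ y * x :=
    nonabelian_of_equiv hG0 hna
  have e1 : Nonempty ((↥(Gam B) ⧸ Subgroup.center ↥(Gam B)) ≃* POmega (ZMod 3) (⇑(QB B))) :=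
    equiv_commutator (Gam B) Gam_normal hs1 hna' hs2
  have h20 : (2 : ZMod 3) ≠ 0 := by decide
  have e2 : Nonempty (POmega (ZMod 3) (⇑(QB B)) ≃* POmega (ZMod 3) (quadFormOdd m (ZMod 3))) :=
    Cfsg.Agent.Fischer919.OmegaIdent.exists_equiv_quadFormOdd h20 (QB B) hQ
  obtain ⟨e1⟩ := e1
  obtain ⟨e2⟩ := e2
  exact ⟨hG0.trans (e1.trans e2)⟩

/-- the form used in the assembly of S0480 -/
theorem pomega_of_isR [Finite G] [IsSimpleGroup G] (hna : ∃ x y : G, x * y ≠ y * x)
    (hD : Cfsg.Agent.Fischer480.Defs.FGroup D) (hn : 6 ≤ n)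
    (hR : Cfsg.Agent.Fischer480.Defs.IsR n D) :
    ∃ m : ℕ, Nonempty (G ≃* POmega (ZMod 3) (quadFormOdd m (ZMod 3))) := by
  obtain ⟨m, -, h⟩ := exists_equiv_pomega hna (fdata_of_class hD.cls) hn hR
  exact ⟨m, h⟩

end Cfsg.Agent.Fischer919.OmegaMain
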