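import Mathlib
import Cfsg.Agent.S0480U.UModel
import Cfsg.Agent.Fischer919.OmegaMain

set_option autoImplicit false

/-!
# (4d) The simple groups of type `U n`

`G` simple and non abelian, generated by a class of 3-transpositions of type `U n`, `n ≥ 4`: then
`G ≃* PSU n F 2`, `F` the field with four elements.
-/

namespace Cfsg.Agent.Fischer919.FinalU

open Cfsg Cfsg.Agent.SporadicStructure.FischerSpace Cfsg.Agent.ThreeTransPolar.Basic
open Cfsg.Agent.ThreeTransPolar.Lines Cfsg.Agent.Fischer920.PsuEnd Cfsg.Agent.S0480U.Herm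
open Cfsg.Agent.Fischer480.Defs Cfsg.Agent.S0480U.UModel

variable {G : Type*} [Group G]
variable {F V : Type*} [Field F] [Fintype F] [AddCommGroup V] [Module F V] {h : V → V → F}
variable {n : ℕ} {D : Set G} {f : G → V}

/-- the third isotropic point of a hyperbolic line -/
theorem third_of_perp (U : UM h n D f) (hn : 4 ≤ n) {y z : G} (hy : y ∈ D) (hz : z ∈ D)
    (hc : ¬ Commute y z) {w : G} (hw : w ∈ D)
    (hperp : ∀ d ∈ D, Commute d y → Commute d z → Commute d w) (hwy : w ≠ y) (hwz : w ≠ z) :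
    ∃ k : F, k ≠ 0 ∧ f w = k • (f z + h (f z) (f y) • f y) := by
  have H := U.herm
  have hfin := U.fin
  have hyz : h (f y) (f z) ≠ 0 := fun h1 => hc ((U.comm y hy z hz).2 h1)
  have hzy : h (f z) (f y) ≠ 0 := fun h1 => hyz (swap_zero H h1)
  obtain ⟨α, β, hαβ⟩ : ∃ α β : F, f w = α • f y + β • f z := by
    by_contra hcon
    push Not at hcon
    obtain ⟨v, hvv, hyv, hzv, huv⟩ := exists_sep_hyp U.card H (by rw [U.dim]; exact hn)
      (U.iso y hy) (U.iso z hz) hyz hcon
    have hv0 : v ≠ 0 := by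
      rintro rfl
      exact huv (zero_right H _)
    obtain ⟨d, hd, c, hc0, hfd⟩ := exists_pt U hv0 hvv
    have hdy : Commute d y := by
      rw [U.comm d hd y hy, hfd, H.smul_left, swap_zero H hyv, mul_zero]
    have hdz : Commute d z := by
      rw [U.comm d hd z hz, hfd, H.smul_left, swap_zero H hzv, mul_zero]
    have hdw := (U.comm d hd w hw).1 (hperp d hd hdy hdz)
    rw [hfd, H.smul_left] at hdw
    rcases mul_eq_zero.1 hdw with h2 | h2
    · exact hc0 h2
    · exact huv (swap_zero H h2)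
  have hβ : β ≠ 0 := by
    rintro rfl
    rw [zero_smul, add_zero] at hαβ
    exact hwy (U.inj w hw y hy α hαβ)
  have hα : α ≠ 0 := by
    rintro rfl
    rw [zero_smul, zero_add] at hαβ
    exact hwz (U.inj w hw z hz β hαβ)
  have h0 := U.iso w hw
  rw [hαβ, H.add_left, H.smul_left, H.smul_left, add_right U.card H, add_right U.card H,
    H.smul_right, H.smul_right, H.smul_right, H.smul_right, U.iso y hy, U.iso z hz] at h0
  have hsw := H.swap (f z) (f y)
  rw [hsw] at h0
  have h1 : α * β * h (f z) (f y) * (β * h (f z) (f y) + α) = 0 := by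
    linear_combination h0
  have h2 : β * h (f z) (f y) + α = 0 := by
    rcases mul_eq_zero.1 h1 with h3 | h3
    · exact absurd h3 (mul_ne_zero (mul_ne_zero hα hβ) hzy)
    · exact h3
  have h3 : α = β * h (f z) (f y) := by
    have := add_self U.card (β * h (f z) (f y))
    linear_combination h2 - this
  exact ⟨β, hβ, by rw [hαβ, h3, smul_add, mul_smul, add_comm]⟩

/-- the hyperbolic lines of a group of type `U n` -/
theorem hyp_of_um (U : UM h n D f) (hn : 4 ≤ n) (hD : FData D) :
    ∀ a ∈ D, ∀ b ∈ D, ¬ Commute a b → ∀ c ∈ D,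
      (∀ z ∈ D, Commute z a → Commute z b → Commute z c) → c = a ∨ c = b ∨ c = a * b * a := by
  intro a ha b hb hab c hc hperp
  by_cases hca : c = a
  · exact Or.inl hca
  by_cases hcb : c = b
  · exact Or.inr (Or.inl hcb)
  right; right
  have habD : a * b * a ∈ D := hD.conj' ha hb
  have h1 : a * b * a ≠ a := by
    intro h0
    apply hab
    have h2 : b * a = 1 := by
      have h3 : a * (b * a) = a * 1 := by rw [← mul_assoc, h0, mul_one]
      exact mul_left_cancel h3
    have h3 : b = a := by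
      rw [mul_eq_one_iff_eq_inv, hD.inv_eq ha] at h2
      exact h2
    rw [h3]
  have h2 : a * b * a ≠ b := fun h0 => hab ((hD.commute_iff ha b).2 h0)
  obtain ⟨k, hk, hk1⟩ := third_of_perp U hn ha hb hab hc hperp hca hcb
  obtain ⟨k', hk', hk1'⟩ := third_of_perp U hn ha hb hab habD
    (fun z _ hza hzb => (hza.mul_right hzb).mul_right hza) h1 h2
  apply U.inj c hc _ habD (k * k'⁻¹)
  rw [hk1, hk1', smul_smul, mul_assoc, inv_mul_cancel₀ hk', mul_one]

/-- **(4d)** -/
theorem psu_of_isU [Finite G] [IsSimpleGroup G] (hna : ∃ x y : G, x * y ≠ y * x)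
    (hD : FGroup D) (hn : 4 ≤ n) (hU : IsU n D) :
    ∃ (F : Type) (_ : Field F) (_ : Fintype F) (n : ℕ),
      Fintype.card F = 4 ∧ Nonempty (G ≃* PSU n F 2) := by
  obtain ⟨F, i1, i2, f, U⟩ := exists_um hU
  have hFD := fdata_of_class hD.cls
  have hfin := U.fin
  obtain ⟨e, -⟩ := exists_equiv_psu hFD (Cfsg.Agent.Fischer919.OmegaMain.center_eq_bot hna)
    (hyp_of_um U hn hFD) U.card U.herm U.dim hn f U.ne U.iso U.comm U.inj U.surj
  exact ⟨F, i1, i2, n, U.card, ⟨e⟩⟩

end Cfsg.Agent.Fischer919.FinalU
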